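import Groth.Agent.RelTwMap.Iso
import Groth.Agent.ProjBC35.Rel
import Groth.Agent.RLPsi35.QLiftGen
import Groth.Agent.RLPsi35.SymLift
import Groth.Agent.SymAlgX.BaseChange

/-!
Twisting sheaves and base change; base change of immersions into projective bundles.
-/

noncomputable section

universe u

set_option backward.isDefEq.respectTransparency false

open CategoryTheory CategoryTheory.Limits AlgebraicGeometry TopologicalSpace Opposite Groth.Agent.QCoh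
open scoped HomogeneousIdeal

namespace Groth.Agent.RelTwMap

open RelTildeX.Exist

variable {Y Y' P P' : Scheme.{u}} {ψ : Y' ⟶ Y} {𝒮 : RelProj.QCGrAlg Y} {𝒮' : RelProj.QCGrAlg Y'}
  {u : RelProj.QGrHom ψ 𝒮 𝒮'} {p : P ⟶ Y} {p' : P' ⟶ Y'}
  {chart : ∀ (U : Y.Opens) (hU : IsAffineOpen U), (((p ⁻¹ᵁ U : P.Opens) : Scheme.{u}) ≅ Proj (𝒮.deg U hU))}
  {chart' : ∀ (U : Y'.Opens) (hU : IsAffineOpen U), (((p' ⁻¹ᵁ U : P'.Opens) : Scheme.{u}) ≅ Proj (𝒮'.deg U hU))}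
  {g : P' ⟶ P}
  {irr : ∀ (U : Y.Opens) (hU : IsAffineOpen U) (U' : Y'.Opens) (hU' : IsAffineOpen U') (hle : U' ≤ ψ ⁻¹ᵁ U),
    (𝒮'.deg U' hU')₊ ≤ ((𝒮.deg U hU)₊).map (u.gradedAt U hU U' hU' hle)}

/-- The data of a graded morphism over a morphism of bases. -/
def ofPairs (hg : ∀ (U : Y.Opens) (hU : IsAffineOpen U) (U' : Y'.Opens) (hU' : IsAffineOpen U') (hle : U' ≤ ψ ⁻¹ᵁ U),
    RelProj.emb p' chart' U' hU' ≫ g =
      Proj.map (u.gradedAt U hU U' hU' hle) (irr U hU U' hU' hle) ≫ RelProj.emb p chart U hU) :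
    Dat 𝒮 𝒮' chart chart' g where
  ι := {c : Y.affineOpens × Y'.affineOpens // c.2.1 ≤ ψ ⁻¹ᵁ c.1.1}
  U c := c.1.1
  U' c := c.1.2
  φ c := u.gradedAt c.1.1.1 c.1.1.2 c.1.2.1 c.1.2.2 c.2
  irr c := irr _ _ _ _ _
  sq c := hg _ _ _ _ _
  cover y := by
    obtain ⟨_, ⟨U, hU, rfl⟩, hy, -⟩ := Y.isBasis_affineOpens.exists_subset_of_mem_open (Set.mem_univ (ψ y)) isOpen_univ
    obtain ⟨_, ⟨U', hU', rfl⟩, hy', hle⟩ := Y'.isBasis_affineOpens.exists_subset_of_mem_open hy (ψ ⁻¹ᵁ U).2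
    exact ⟨⟨(⟨U, hU⟩, ⟨U', hU'⟩), hle⟩, hy'⟩
  refine' i j y hi hj := by
    obtain ⟨E, h1, h2, hE⟩ := exists_bas i.1.1 j.1.1 (y := ψ y) ⟨i.2 hi, j.2 hj⟩
    obtain ⟨D, h3, h4, hD⟩ := exists_bas i.1.2 j.1.2 (y := y) ⟨hi, hj⟩
    obtain ⟨g', hg', hyg⟩ := D.2.exists_basicOpen_le (V := D.1 ⊓ ψ ⁻¹ᵁ E.1) ⟨y, hD, hE⟩ hD
    have h5 : Bas D ⟨_, D.2.basicOpen g'⟩ := ⟨g', rfl⟩
    exact ⟨⟨(E, ⟨_, D.2.basicOpen g'⟩), hg'.trans inf_le_right⟩, hyg, h1, h3.trans h5, h2, h4.trans h5⟩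
  comm i k hU hU' a := by
    show (𝒮'.presheaf.map (homOfLE k.2).op).hom ((u.app k.1.1.1).hom ((𝒮.presheaf.map (homOfLE hU.le).op).hom a)) =
      (𝒮'.presheaf.map (homOfLE hU'.le).op).hom ((𝒮'.presheaf.map (homOfLE i.2).op).hom ((u.app i.1.1.1).hom a))
    rw [show (u.app k.1.1.1).hom ((𝒮.presheaf.map (homOfLE hU.le).op).hom a) = _ from
      (congr($(u.naturality hU.le).hom a)).symm]
    simp only [← CommRingCat.comp_apply, Category.assoc, ← Functor.map_comp]; rfl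

/-- The square of an everywhere defined induced morphism. -/
theorem emb_comp_of_isProjQMap {h : P' ⟶ P} (hh : RelProj.IsProjQMap u p chart p' chart' h)
    (U : Y.Opens) (hU : IsAffineOpen U) (U' : Y'.Opens) (hU' : IsAffineOpen U') (hle : U' ≤ ψ ⁻¹ᵁ U)
    (irr' : (𝒮'.deg U' hU')₊ ≤ ((𝒮.deg U hU)₊).map (u.gradedAt U hU U' hU' hle)) :
    RelProj.emb p' chart' U' hU' ≫ h =
      Proj.map (u.gradedAt U hU U' hU' hle) irr' ≫ RelProj.emb p chart U hU := by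
  refine (Proj.mapAffineOpenCover _ irr').openCover.hom_ext _ _ fun s ↦ ?_
  have h1 := hh.2 U hU U' hU' hle s.1 s.1.2 s.2 s.2.2
  unfold RelProj.awayEmb at h1
  rw [Category.assoc] at h1
  simp only [Scheme.AffineOpenCover.openCover_f, Proj.mapAffineOpenCover_f]
  rw [Proj.awayι_comp_map_assoc (u.gradedAt U hU U' hU' hle) irr' s.1.2 _ s.2.2]
  exact h1

/-- Twisting sheaves of an algebra generated in degree one and base change. -/
theorem nonempty_pullback_twist (hv : RelSpec.IsQBaseChange u.toQHom)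
    (hP : RelProj.IsRelProj 𝒮 p chart) (hP' : RelProj.IsRelProj 𝒮' p' chart') (hgen : 𝒮.IsGenDegOne)
    {h : P' ⟶ P} (hh : RelProj.IsProjQMap u p chart p' chart' h) {n : ℤ} {L : P.Modules}
    {lam : ∀ (U : Y.Opens) (hU : IsAffineOpen U),
      L ⟶ (Scheme.Modules.pushforward (RelProj.emb p chart U hU)).obj (GrTwist.twist (𝒮.deg U hU) n)}
    (hL : RelProj.IsRelTwist 𝒮 p chart n L lam) {L' : P'.Modules}
    {lam' : ∀ (U : Y'.Opens) (hU : IsAffineOpen U),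
      L' ⟶ (Scheme.Modules.pushforward (RelProj.emb p' chart' U hU)).obj (GrTwist.twist (𝒮'.deg U hU) n)}
    (hL' : RelProj.IsRelTwist 𝒮' p' chart' n L' lam') :
    Nonempty ((Scheme.Modules.pullback h).obj L ≅ L') := by
  let D := ofPairs (fun U hU U' hU' hle => emb_comp_of_isProjQMap hh U hU U' hU' hle
    (ProjBC35.irrelevant_le_gradedAt hv U hU U' hU' hle))
  obtain ⟨θ, hθ, -⟩ := existsUnique_map hP hP' D hL hL'
  haveI := isIso_adjunct D hL hL' hθ fun c => RelTildeX.irrelevant_eq_span_deg_one hgen _ _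
  exact ⟨asIso (((Scheme.Modules.pullbackPushforwardAdjunction h).homEquiv _ _).symm θ)⟩

/-- Base change of an immersion into a projective bundle. -/
theorem isRelVeryAmple_of_baseChange {X' : Scheme.{u}} (ψ : Y' ⟶ Y) {E : Y.Modules} (hE : Coh.IsQCoh E)
    {𝒯 : RelProj.QCGrAlg Y} {j : E ⟶ 𝒯.toModule} (hj : RelProj.IsGrSymAlg E 𝒯 j) {P : Scheme.{u}} {p : P ⟶ Y}
    {chart : ∀ (U : Y.Opens) (hU : IsAffineOpen U), (((p ⁻¹ᵁ U : P.Opens) : Scheme.{u}) ≅ Proj (𝒯.deg U hU))}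
    (hP : RelProj.IsRelProj 𝒯 p chart) {O1 : P.Modules}
    {lam : ∀ (U : Y.Opens) (hU : IsAffineOpen U),
      O1 ⟶ (Scheme.Modules.pushforward (RelProj.emb p chart U hU)).obj (GrTwist.twist (𝒯.deg U hU) 1)}
    (hO1 : RelProj.IsRelTwist 𝒯 p chart 1 O1 lam)
    {f' : X' ⟶ Y'} (k : X' ⟶ P) (w : k ≫ p = f' ≫ ψ) {L' : X'.Modules}
    (e : L' ≅ (Scheme.Modules.pullback k).obj O1)
    (himm : ∀ (Q : Scheme.{u}) (q₁ : Q ⟶ P) (q₂ : Q ⟶ Y') (hQ : IsPullback q₁ q₂ p ψ),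
      IsImmersion (hQ.lift k f' w)) :
    RelProj.IsRelVeryAmple f' L' := by
  have hE' : Coh.IsQCoh ((Scheme.Modules.pullback ψ).obj E) := QCoh.isQCoh_pullback ψ hE
  obtain ⟨𝒯', j', hj'⟩ := SymAlgX.exists_isGrSymAlg _ hE'
  obtain ⟨u, hu⟩ := RLPsi35.exists_qLift_gen hE hj 𝒯'
    ((Scheme.Modules.pullbackPushforwardAdjunction ψ).unit.app E ≫ (Scheme.Modules.pushforward ψ).map j')
    fun U hU x V hV hVU => by
      have e := j'.mapPresheaf.naturality (homOfLE hVU).op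
      exact congrArg (· ∈ 𝒯'.deg V hV 1) (congr($(e) _)) |>.mp (hj'.2 V hV _)
  have hv : RelSpec.IsQBaseChange u.toQHom := SymAlgX.isQBaseChange hE hj.1 hj'.1 u.toQHom hu
  obtain ⟨P', p', chart', hP'⟩ := Proj16.exists_isRelProj 𝒯'
  obtain ⟨h, hh, -⟩ := ProjQMapX.existsUnique_isProjQMap hP hP' (ProjBC35.domQ_eq_top hv)
  have hpb : IsPullback h p' p ψ := ProjBC35.isPullback_of_isProjQMap hP hP' hv hh
  obtain ⟨O1', lam', hO1'⟩ := RelTildeX.exists_isRelTwist 𝒯' hP' 1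
  obtain ⟨θ⟩ := nonempty_pullback_twist hv hP hP' (SymAlgX.isGenDegOne hE hj) hh hO1 hO1'
  refine ⟨_, hE', 𝒯', j', hj', P', p', chart', hP', O1', lam', hO1', hpb.lift k f' w,
    himm P' h p' hpb, hpb.lift_snd k f' w, ⟨e ≪≫
      (Scheme.Modules.pullbackCongr (hpb.lift_fst k f' w).symm).app _ ≪≫
      (Scheme.Modules.pullbackComp (hpb.lift k f' w) h).symm.app _ ≪≫
      (Scheme.Modules.pullback (hpb.lift k f' w)).mapIso θ⟩⟩

end Groth.Agent.RelTwMap
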