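import Groth.Agent.RelTildeX.TwistExist
import Groth.Agent.TwAdj35.Comap

/-!
The comparison of twisting sheaves along a morphism of relative `Proj`s given chartwise.
-/

noncomputable section

universe u

set_option backward.isDefEq.respectTransparency false

open CategoryTheory CategoryTheory.Limits AlgebraicGeometry TopologicalSpace Opposite Groth.Agent.QCoh
open scoped HomogeneousIdeal

namespace Groth.Agent.RelTwMap

open RelTildeX RelTildeX.Exist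

variable {Y Y' PA PB : Scheme.{u}} (𝒜 : RelProj.QCGrAlg Y) (ℬ : RelProj.QCGrAlg Y') {pA : PA ⟶ Y} {pB : PB ⟶ Y'}
  (chartA : ∀ (U : Y.Opens) (hU : IsAffineOpen U), (((pA ⁻¹ᵁ U : PA.Opens) : Scheme.{u}) ≅ Proj (𝒜.deg U hU)))
  (chartB : ∀ (U : Y'.Opens) (hU : IsAffineOpen U), (((pB ⁻¹ᵁ U : PB.Opens) : Scheme.{u}) ≅ Proj (ℬ.deg U hU)))
  (h : PB ⟶ PA)

/-- A morphism of relative `Proj`s given chartwise by homomorphisms of graded rings. -/
structure Dat where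
  ι : Type u
  U : ι → Y.affineOpens
  U' : ι → Y'.affineOpens
  φ : ∀ i, 𝒜.deg (U i).1 (U i).2 →+*ᵍ ℬ.deg (U' i).1 (U' i).2
  irr : ∀ i, (ℬ.deg (U' i).1 (U' i).2)₊ ≤ ((𝒜.deg (U i).1 (U i).2)₊).map (φ i)
  sq : ∀ i, RelProj.emb pB chartB (U' i).1 (U' i).2 ≫ h =
    Proj.map (φ i) (irr i) ≫ RelProj.emb pA chartA (U i).1 (U i).2
  cover : ∀ y : Y', ∃ i, y ∈ (U' i).1
  refine' : ∀ i j (y : Y'), y ∈ (U' i).1 → y ∈ (U' j).1 → ∃ k, y ∈ (U' k).1 ∧
    Bas (U i) (U k) ∧ Bas (U' i) (U' k) ∧ Bas (U j) (U k) ∧ Bas (U' j) (U' k)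
  comm : ∀ i k (hU : Bas (U i) (U k)) (hU' : Bas (U' i) (U' k)) (a : 𝒜.presheaf.obj (op (U i).1)),
    φ k (𝒜.res (U i).2 (U k).2 hU.le a) = ℬ.res (U' i).2 (U' k).2 hU'.le (φ i a)

variable {𝒜 ℬ chartA chartB h}
  (hA : RelProj.IsRelProj 𝒜 pA chartA) (hB : RelProj.IsRelProj ℬ pB chartB)
  (D : Dat 𝒜 ℬ chartA chartB h) {n : ℤ}
  {LA : PA.Modules}
  {lamA : ∀ (U : Y.Opens) (hU : IsAffineOpen U),
    LA ⟶ (Scheme.Modules.pushforward (RelProj.emb pA chartA U hU)).obj (GrTwist.twist (𝒜.deg U hU) n)}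
  (hLA : RelProj.IsRelTwist 𝒜 pA chartA n LA lamA)
  {LB : PB.Modules}
  {lamB : ∀ (U : Y'.Opens) (hU : IsAffineOpen U),
    LB ⟶ (Scheme.Modules.pushforward (RelProj.emb pB chartB U hU)).obj (GrTwist.twist (ℬ.deg U hU) n)}
  (hLB : RelProj.IsRelTwist ℬ pB chartB n LB lamB)

section compat

variable {S P : Scheme.{u}} {𝒮 : RelProj.QCGrAlg S} {p : P ⟶ S}
  {chart : ∀ (U : S.Opens) (hU : IsAffineOpen U), (((p ⁻¹ᵁ U : P.Opens) : Scheme.{u}) ≅ Proj (𝒮.deg U hU))}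
  {L : P.Modules}
  {lam : ∀ (U : S.Opens) (hU : IsAffineOpen U),
    L ⟶ (Scheme.Modules.pushforward (RelProj.emb p chart U hU)).obj (GrTwist.twist (𝒮.deg U hU) n)}
  (hP : RelProj.IsRelProj 𝒮 p chart) (hL : RelProj.IsRelTwist 𝒮 p chart n L lam)

include hP hL in
/-- Values in the chart of a basic open. -/
lemma val_bas {U E : S.affineOpens} (hUE : Bas U E) {W : P.Opens} (s : Γ(L, W))
    (z : Proj (𝒮.deg E.1 E.2)) (hz : RelProj.emb p chart E.1 E.2 z ∈ W)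
    (x : Proj (𝒮.deg U.1 U.2)) (hxz : RelProj.emb p chart U.1 U.2 x = RelProj.emb p chart E.1 E.2 z)
    (hxW : RelProj.emb p chart U.1 U.2 x ∈ W)
    {a c : 𝒮.presheaf.obj (op U.1)} (hc : c ∉ x.asHomogeneousIdeal)
    (ht : GrTwist.val (V := RelProj.emb p chart U.1 U.2 ⁻¹ᵁ W) ((lam U.1 U.2).app W s) ⟨x, hxW⟩ =
      Localization.mk a ⟨c, hc⟩) :
    ∃ hc' : 𝒮.res U.2 E.2 hUE.le c ∉ z.asHomogeneousIdeal,
      GrTwist.val (V := RelProj.emb p chart E.1 E.2 ⁻¹ᵁ W) ((lam E.1 E.2).app W s) ⟨z, hz⟩ =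
        Localization.mk (𝒮.res U.2 E.2 hUE.le a) ⟨_, hc'⟩ := by
  obtain ⟨U, hU⟩ := U
  obtain ⟨E, hE⟩ := E
  obtain ⟨r, e⟩ := id hUE
  simp only at e
  subst e
  obtain rfl : x = ProjectiveSpectrum.comap (𝒮.res hU (hU.basicOpen r) (S.basicOpen_le r))
      (𝒮.irrelevant_le_map U hU r) z := by
    apply (RelProj.emb p chart U hU).isOpenEmbedding.injective
    exact hxz.trans (congrArg (fun ψ : Proj (𝒮.deg (S.basicOpen r) (hU.basicOpen r)) ⟶ P => ψ.base z)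
      (RelProj.map_res_emb hP U hU r)).symm
  refine ⟨hc, (hL.compat U hU r W s z hz hxW).trans ?_⟩
  refine (congrArg _ ht).trans ?_
  exact GrTwist.locMap_mk _ _ _ _ _

include hP in
/-- The restriction to a basic open is injective on degree-`n` fractions. -/
lemma bas_injective {U E : S.affineOpens} (hUE : Bas U E)
    (z : Proj (𝒮.deg E.1 E.2)) (x : Proj (𝒮.deg U.1 U.2))
    (hxz : RelProj.emb p chart U.1 U.2 x = RelProj.emb p chart E.1 E.2 z)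
    {q q' : GrTwist.Loc (𝒮.deg U.1 U.2) x} (hq : q ∈ GrTwist.twistAt (𝒮.deg U.1 U.2) n x)
    (hq' : q' ∈ GrTwist.twistAt (𝒮.deg U.1 U.2) n x)
    {a c a' c' : 𝒮.presheaf.obj (op U.1)} (hc : c ∉ x.asHomogeneousIdeal) (hc' : c' ∉ x.asHomogeneousIdeal)
    (e : q = Localization.mk a ⟨c, hc⟩) (e' : q' = Localization.mk a' ⟨c', hc'⟩)
    (hres : ∀ (h₁ : 𝒮.res U.2 E.2 hUE.le c ∉ z.asHomogeneousIdeal)
      (h₂ : 𝒮.res U.2 E.2 hUE.le c' ∉ z.asHomogeneousIdeal),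
      (Localization.mk (𝒮.res U.2 E.2 hUE.le a) ⟨_, h₁⟩ : GrTwist.Loc (𝒮.deg E.1 E.2) z) =
        Localization.mk (𝒮.res U.2 E.2 hUE.le a') ⟨_, h₂⟩) : q = q' := by
  obtain ⟨U, hU⟩ := U
  obtain ⟨E, hE⟩ := E
  obtain ⟨r, er⟩ := id hUE
  simp only at er
  subst er
  obtain rfl : x = ProjectiveSpectrum.comap (𝒮.res hU (hU.basicOpen r) (S.basicOpen_le r))
      (𝒮.irrelevant_le_map U hU r) z := by
    apply (RelProj.emb p chart U hU).isOpenEmbedding.injective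
    exact hxz.trans (congrArg (fun ψ : Proj (𝒮.deg (S.basicOpen r) (hU.basicOpen r)) ⟶ P => ψ.base z)
      (RelProj.map_res_emb hP U hU r)).symm
  refine sub_eq_zero.mp ((TwAdj35.stalkBij_of_invertsZero (hψ := 𝒮.irrelevant_le_map U hU r)
    (Proj16.res_invertsZero 𝒮 U hU r) n z).1 _ (sub_mem hq hq') ?_)
  rw [map_sub, e, e', GrTwist.locMap_mk, GrTwist.locMap_mk, sub_eq_zero]
  exact hres hc hc'

end compat

lemma exists_mk {U : Y.affineOpens} {W : PA.Opens} (s : Γ(LA, W)) (x : Proj (𝒜.deg U.1 U.2))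
    (hxW : RelProj.emb pA chartA U.1 U.2 x ∈ W) :
    ∃ (a c : 𝒜.presheaf.obj (op U.1)) (hc : c ∉ x.asHomogeneousIdeal),
      GrTwist.val (V := RelProj.emb pA chartA U.1 U.2 ⁻¹ᵁ W) ((lamA U.1 U.2).app W s) ⟨x, hxW⟩ =
        Localization.mk a ⟨c, hc⟩ := by
  induction (GrTwist.val (V := RelProj.emb pA chartA U.1 U.2 ⁻¹ᵁ W) ((lamA U.1 U.2).app W s) ⟨x, hxW⟩)
    using Localization.induction_on with
  | H y => exact ⟨y.1, y.2.1, y.2.2, rfl⟩

lemma mem_of_sq (i : D.ι) (y : Proj (ℬ.deg (D.U' i).1 (D.U' i).2)) {W : PA.Opens}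
    (hy : RelProj.emb pB chartB (D.U' i).1 (D.U' i).2 y ∈ h ⁻¹ᵁ W) :
    RelProj.emb pA chartA (D.U i).1 (D.U i).2 (ProjectiveSpectrum.comap (D.φ i) (D.irr i) y) ∈ W := by
  have e : h (RelProj.emb pB chartB (D.U' i).1 (D.U' i).2 y) =
      RelProj.emb pA chartA (D.U i).1 (D.U i).2 (ProjectiveSpectrum.comap (D.φ i) (D.irr i) y) :=
    congrArg (fun ψ : Proj (ℬ.deg (D.U' i).1 (D.U' i).2) ⟶ PA => ψ.base y) (D.sq i)
  exact e ▸ hy

variable (lamA lamB) in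
/-- A section related to `s` in a chart. -/
def Rel (i : D.ι) {W : PA.Opens} (s : Γ(LA, W)) (W' : PB.Opens) (t : Γ(LB, W')) : Prop :=
  ∀ (y : Proj (ℬ.deg (D.U' i).1 (D.U' i).2)) (hy : RelProj.emb pB chartB (D.U' i).1 (D.U' i).2 y ∈ W')
    (hy' : RelProj.emb pA chartA (D.U i).1 (D.U i).2 (ProjectiveSpectrum.comap (D.φ i) (D.irr i) y) ∈ W),
    GrTwist.val (V := RelProj.emb pB chartB (D.U' i).1 (D.U' i).2 ⁻¹ᵁ W')
        ((lamB (D.U' i).1 (D.U' i).2).app W' t) ⟨y, hy⟩ =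
      GrTwist.locMap (D.φ i) (D.irr i) y
        (GrTwist.val (V := RelProj.emb pA chartA (D.U i).1 (D.U i).2 ⁻¹ᵁ W)
          ((lamA (D.U i).1 (D.U i).2).app W s) ⟨_, hy'⟩)

lemma Rel.res {i : D.ι} {W : PA.Opens} {s : Γ(LA, W)} {W' W'' : PB.Opens} {t : Γ(LB, W')}
    (hr : Rel D lamA lamB i s W' t) (j : W'' ≤ W') : Rel D lamA lamB i s W'' (AModX.res LB j t) := by
  intro y hy hy'
  refine Eq.trans ?_ (hr y (j hy) hy')
  rw [AModX.app_res]
  rfl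

include hA hB hLA hLB in
/-- A relation in one chart gives it in all charts. -/
lemma Rel.all {i : D.ι} {W : PA.Opens} {s : Γ(LA, W)} {W' : PB.Opens} {t : Γ(LB, W')}
    (hr : Rel D lamA lamB i s W' t) (hWU : W' ≤ pB ⁻¹ᵁ (D.U' i).1) (hW : W' ≤ h ⁻¹ᵁ W) (j : D.ι) :
    Rel D lamA lamB j s W' t := by
  intro y hy hy'
  obtain ⟨k, hk, hik, hik', hjk, hjk'⟩ := D.refine' i j (pB (RelProj.emb pB chartB (D.U' j).1 (D.U' j).2 y))
    (hWU hy) (Exist.mem_preimage (D.U' j) y)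
  obtain ⟨z, hz⟩ := Exist.hit (chart := chartB) (D.U' k) hk
  obtain ⟨yi, hyi⟩ := Exist.hit (chart := chartB) (D.U' i)
    (show RelProj.emb pB chartB (D.U' j).1 (D.U' j).2 y ∈ pB ⁻¹ᵁ (D.U' i).1 from hWU hy)
  -- the values of `s`
  obtain ⟨a, c, hc, ea⟩ := exists_mk (lamA := lamA) s _ hy'
  have hyi' := mem_of_sq D i yi (W := W) (hW (hyi ▸ hy))
  obtain ⟨ai, ci, hci, eai⟩ := exists_mk (lamA := lamA) s _ hyi'
  have hzW : RelProj.emb pA chartA (D.U k).1 (D.U k).2 (ProjectiveSpectrum.comap (D.φ k) (D.irr k) z) ∈ W :=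
    mem_of_sq D k z (hW (hz ▸ hy))
  have sqpt : ∀ (l : D.ι) (v : Proj (ℬ.deg (D.U' l).1 (D.U' l).2)),
      h (RelProj.emb pB chartB (D.U' l).1 (D.U' l).2 v) =
      RelProj.emb pA chartA (D.U l).1 (D.U l).2 (ProjectiveSpectrum.comap (D.φ l) (D.irr l) v) := fun l v =>
    congrArg (fun ψ : Proj (ℬ.deg (D.U' l).1 (D.U' l).2) ⟶ PA => ψ.base v) (D.sq l)
  have hxj : RelProj.emb pA chartA (D.U j).1 (D.U j).2 (ProjectiveSpectrum.comap (D.φ j) (D.irr j) y) =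
      RelProj.emb pA chartA (D.U k).1 (D.U k).2 (ProjectiveSpectrum.comap (D.φ k) (D.irr k) z) := by
    rw [← sqpt, ← sqpt, hz]
  have hxi : RelProj.emb pA chartA (D.U i).1 (D.U i).2 (ProjectiveSpectrum.comap (D.φ i) (D.irr i) yi) =
      RelProj.emb pA chartA (D.U k).1 (D.U k).2 (ProjectiveSpectrum.comap (D.φ k) (D.irr k) z) := by
    rw [← sqpt, ← sqpt, hyi, hz]
  obtain ⟨hck, eak⟩ := val_bas hA hLA hjk s _ hzW _ hxj hy' hc ea
  obtain ⟨hcik, eaik⟩ := val_bas hA hLA hik s _ hzW _ hxi hyi' hci eai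
  -- the values of `t`
  have ei := hr yi (hyi ▸ hy) hyi'
  rw [eai, GrTwist.locMap_mk] at ei
  obtain ⟨hdk, ebk⟩ := val_bas hB hLB hik' t z (hz ▸ hy) yi (hyi.trans hz.symm) (hyi ▸ hy) _ ei
  obtain ⟨b, d, hd, eb⟩ : ∃ (b d : ℬ.presheaf.obj (op (D.U' j).1)) (hd : d ∉ y.asHomogeneousIdeal),
      GrTwist.val (V := RelProj.emb pB chartB (D.U' j).1 (D.U' j).2 ⁻¹ᵁ W')
        ((lamB (D.U' j).1 (D.U' j).2).app W' t) ⟨y, hy⟩ = Localization.mk b ⟨d, hd⟩ :=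
    exists_mk (lamA := lamB) t y hy
  obtain ⟨hdk', ebk'⟩ := val_bas hB hLB hjk' t z (hz ▸ hy) y hz.symm hy hd eb
  refine bas_injective hB hjk' z y hz.symm (Subtype.coe_prop _) (GrTwist.locMap_mem _ _ n y (Subtype.coe_prop _))
    hd (show D.φ j c ∉ y.asHomogeneousIdeal from hc) eb
    ((congrArg _ ea).trans (GrTwist.locMap_mk _ _ _ _ _)) fun h₁ h₂ => ?_
  refine ebk'.symm.trans (ebk.trans ?_)
  have key := congrArg (GrTwist.locMap (D.φ k) (D.irr k) z) (eaik.symm.trans eak)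
  rw [GrTwist.locMap_mk, GrTwist.locMap_mk] at key
  simp only [D.comm i k hik hik', D.comm j k hjk hjk'] at key
  exact key

include hA hB hLA hLB in
/-- Related sections exist and are unique. -/
lemma existsUnique_rel {W : PA.Opens} (s : Γ(LA, W)) :
    ∃! t : Γ(LB, h ⁻¹ᵁ W), ∀ i, Rel D lamA lamB i s _ t := by
  let O : D.ι → PB.Opens := fun i => h ⁻¹ᵁ W ⊓ pB ⁻¹ᵁ (D.U' i).1
  have uniq : ∀ (i : D.ι) (W' : PB.Opens), W' ≤ O i → ∀ t t' : Γ(LB, W'),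
      Rel D lamA lamB i s W' t → Rel D lamA lamB i s W' t' → t = t' := by
    intro i W' hW' t t' ht ht'
    refine (hLB.bijective _ (D.U' i).2 W' (hW'.trans inf_le_right)).1 ?_
    refine GrModX.ext_val _ _ fun ⟨y, hy⟩ => ?_
    exact (ht y hy (mem_of_sq D i y (hW' hy).1)).trans (ht' y hy _).symm
  have hpre : ∀ i, RelProj.emb pB chartB (D.U' i).1 (D.U' i).2 ⁻¹ᵁ O i ≤
      Proj.map (D.φ i) (D.irr i) ⁻¹ᵁ (RelProj.emb pA chartA (D.U i).1 (D.U i).2 ⁻¹ᵁ W) :=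
    fun i y hy => mem_of_sq D i y hy.1
  have hex : ∀ i, ∃ t : Γ(LB, O i), Rel D lamA lamB i s (O i) t := fun i => by
    obtain ⟨t, ht⟩ := (hLB.bijective _ (D.U' i).2 (O i) inf_le_right).2
      ((GrTwist.twist (ℬ.deg (D.U' i).1 (D.U' i).2) n).presheaf.map (homOfLE (hpre i)).op
        ((GrTwist.comap (D.φ i) (D.irr i) n).app _ ((lamA (D.U i).1 (D.U i).2).app W s)))
    refine ⟨t, fun y hy hy' => ?_⟩
    rw [ht]
    rfl
  choose t ht using hex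
  obtain ⟨T, hT, -⟩ := TopCat.Sheaf.existsUnique_gluing' ⟨LB.presheaf, LB.isSheaf⟩ O (h ⁻¹ᵁ W)
    (fun _ => homOfLE inf_le_left)
    (fun x hx => by
      obtain ⟨i, hi⟩ := D.cover (pB x)
      exact Opens.mem_iSup.2 ⟨i, hx, hi⟩) t
    (fun i j => uniq i _ inf_le_left _ _ (((ht i).res D) inf_le_left)
      ((((ht j).all hA hB D hLA hLB inf_le_right inf_le_left i).res D) inf_le_right))
  have hTi : ∀ i, AModX.res LB (inf_le_left : O i ≤ h ⁻¹ᵁ W) T = t i := hT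
  refine ⟨T, fun i y hy hy' => ?_, fun T' hT' => ?_⟩
  · have h1 := ht i y ⟨hy, Exist.mem_preimage (D.U' i) y⟩ hy'
    refine Eq.trans ?_ h1
    rw [← hTi i, AModX.app_res]
    rfl
  · refine AModX.eq_of_locally _ _ fun x hx => ?_
    obtain ⟨i, hi⟩ := D.cover (pB x)
    exact ⟨O i, inf_le_left, ⟨hx, hi⟩, (uniq i _ le_rfl _ _ ((hT' i).res D _) (ht i)).trans (hTi i).symm⟩

include hA hB hLA hLB in
/-- The glued comparison. -/
theorem existsUnique_map : ∃! θ : LA ⟶ (Scheme.Modules.pushforward h).obj LB,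
    ∀ (i : D.ι) (W : PA.Opens) (s : Γ(LA, W)), Rel D lamA lamB i s (h ⁻¹ᵁ W) (θ.app W s) := by
  choose θ hθ huniq using fun W (s : Γ(LA, W)) => existsUnique_rel hA hB D hLA hLB s
  have hadd : ∀ (W : PA.Opens) (a b : Γ(LA, W)), θ W (a + b) = θ W a + θ W b := fun W a b =>
    (huniq W (a + b) _ fun i y hy hy' => by
      have h1 := hθ W a i y hy hy'
      have h2 := hθ W b i y hy hy'
      rw [map_add, map_add]
      refine Eq.trans ?_ ((congrArg₂ (· + ·) h1 h2).trans (map_add _ _ _).symm)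
      rfl).symm
  have hsmul : ∀ (W : PA.Opens) (c : Γ(PA, W)) (a : Γ(LA, W)), θ W (c • a) = h.app W c • θ W a := fun W c a =>
    (huniq W (c • a) _ fun i y hy hy' => by
      have e1 : RelProj.emb pB chartB (D.U' i).1 (D.U' i).2 ⁻¹ᵁ (h ⁻¹ᵁ W) =
          Proj.map (D.φ i) (D.irr i) ⁻¹ᵁ (RelProj.emb pA chartA (D.U i).1 (D.U i).2 ⁻¹ᵁ W) :=
        congrArg (fun ψ : _ ⟶ PA => ψ ⁻¹ᵁ W) (D.sq i)
      let tw := GrTwist.twist (ℬ.deg (D.U' i).1 (D.U' i).2) n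
      let cm : Γ(LA, W) → Γ(tw, RelProj.emb pB chartB (D.U' i).1 (D.U' i).2 ⁻¹ᵁ (h ⁻¹ᵁ W)) := fun x =>
        tw.presheaf.map (homOfLE e1.le).op
          ((GrTwist.comap (D.φ i) (D.irr i) n).app _ ((lamA (D.U i).1 (D.U i).2).app W x))
      have hcm : (lamB (D.U' i).1 (D.U' i).2).app _ (θ W a) = cm a := GrModX.ext_val _ _ fun ⟨z, hz⟩ => by
        refine (hθ W a i z hz (mem_of_sq D i z hz)).trans ?_
        rfl
      have hlin : (RelProj.emb pB chartB (D.U' i).1 (D.U' i).2).app (h ⁻¹ᵁ W) (h.app W c) • cm a = cm (c • a) := by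
        simp only [cm, Scheme.Modules.Hom.app_smul]
        erw [Scheme.Modules.Hom.app_smul, tw.val.map_smul]
        congr 1
        show ((h.app W) ≫ (RelProj.emb pB chartB (D.U' i).1 (D.U' i).2).app (h ⁻¹ᵁ W)) c =
          (((RelProj.emb pA chartA (D.U i).1 (D.U i).2).app W ≫ (Proj.map (D.φ i) (D.irr i)).app _) ≫
            (Proj (ℬ.deg (D.U' i).1 (D.U' i).2)).presheaf.map (homOfLE e1.le).op) c
        rw [← Scheme.Hom.comp_app, ← Scheme.Hom.comp_app, Scheme.Hom.congr_app (D.sq i)]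
        rfl
      rw [Scheme.Modules.Hom.app_smul]
      exact congrArg (fun v => GrTwist.val (V := RelProj.emb pB chartB (D.U' i).1 (D.U' i).2 ⁻¹ᵁ (h ⁻¹ᵁ W)) v ⟨y, hy⟩)
        ((congrArg (fun v : Γ(tw, RelProj.emb pB chartB (D.U' i).1 (D.U' i).2 ⁻¹ᵁ (h ⁻¹ᵁ W)) =>
          (RelProj.emb pB chartB (D.U' i).1 (D.U' i).2).app (h ⁻¹ᵁ W) (h.app W c) • v) hcm).trans hlin)).symm
  have hnat : ∀ (V W : PA.Opens) (e : W ≤ V) (a : Γ(LA, V)),
      θ W (AModX.res LA e a) = AModX.res LB (h.preimage_mono e) (θ V a) := fun V W e a =>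
    (huniq W _ _ fun i y hy hy' => by
      have h1 := hθ V a i y (e hy) (e hy')
      rw [AModX.app_res, AModX.app_res]
      exact h1).symm
  refine ⟨⟨PresheafOfModules.homMk
    { app := fun W => AddCommGrpCat.ofHom (AddMonoidHom.mk' (θ W.unop) (hadd W.unop))
      naturality := fun V W e => by
        ext a
        exact hnat V.unop W.unop e.unop.le a }
    fun W c a => hsmul W.unop c a⟩, fun i W s => hθ W s i, fun θ' hθ' => ?_⟩
  refine Scheme.Modules.hom_ext _ _ fun W => ?_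
  ext s
  exact huniq W s _ fun i => hθ' i W s

end Groth.Agent.RelTwMap
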