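import Groth.Agent.RelTwMap.Data
import Groth.Agent.TwAdj35.BaseChangeLE
import Groth.Agent.TwAdj35.GrModBC
import Groth.Agent.RelTildeX.Twist

/-!
The comparison of twisting sheaves when the algebra is generated in degree one; homomorphisms over one base.
-/

noncomputable section

universe u

set_option backward.isDefEq.respectTransparency false

open CategoryTheory CategoryTheory.Limits AlgebraicGeometry TopologicalSpace Opposite Groth.Agent.QCoh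
open scoped HomogeneousIdeal

namespace Groth.Agent.RelTwMap

section iso

variable {Y Y' PA PB : Scheme.{u}} {𝒜 : RelProj.QCGrAlg Y} {ℬ : RelProj.QCGrAlg Y'} {pA : PA ⟶ Y} {pB : PB ⟶ Y'}
  {chartA : ∀ (U : Y.Opens) (hU : IsAffineOpen U), (((pA ⁻¹ᵁ U : PA.Opens) : Scheme.{u}) ≅ Proj (𝒜.deg U hU))}
  {chartB : ∀ (U : Y'.Opens) (hU : IsAffineOpen U), (((pB ⁻¹ᵁ U : PB.Opens) : Scheme.{u}) ≅ Proj (ℬ.deg U hU))}
  {h : PB ⟶ PA} (D : Dat 𝒜 ℬ chartA chartB h) {n : ℤ}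
  {LA : PA.Modules}
  {lamA : ∀ (U : Y.Opens) (hU : IsAffineOpen U),
    LA ⟶ (Scheme.Modules.pushforward (RelProj.emb pA chartA U hU)).obj (GrTwist.twist (𝒜.deg U hU) n)}
  (hLA : RelProj.IsRelTwist 𝒜 pA chartA n LA lamA)
  {LB : PB.Modules}
  {lamB : ∀ (U : Y'.Opens) (hU : IsAffineOpen U),
    LB ⟶ (Scheme.Modules.pushforward (RelProj.emb pB chartB U hU)).obj (GrTwist.twist (ℬ.deg U hU) n)}
  (hLB : RelProj.IsRelTwist ℬ pB chartB n LB lamB)
  {θ : LA ⟶ (Scheme.Modules.pushforward h).obj LB}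
  (hθ : ∀ (i : D.ι) (W : PA.Opens) (s : Γ(LA, W)), Rel D lamA lamB i s (h ⁻¹ᵁ W) (θ.app W s))

include hLA hLB hθ in
/-- The adjunct is invertible when the algebra is generated in degree one. -/
theorem isIso_adjunct
    (hgen : ∀ i, ((𝒜.deg (D.U i).1 (D.U i).2)₊).toIdeal =
      Ideal.span (𝒜.deg (D.U i).1 (D.U i).2 1 : Set (𝒜.presheaf.obj (op (D.U i).1)))) :
    IsIso (((Scheme.Modules.pullbackPushforwardAdjunction h).homEquiv _ _).symm θ) := by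
  let I := Σ i : D.ι, (𝒜.deg (D.U i).1 (D.U i).2 1 : AddSubgroup (𝒜.presheaf.obj (op (D.U i).1)))
  let eA := fun i : D.ι => RelProj.emb pA chartA (D.U i).1 (D.U i).2
  let eB := fun i : D.ι => RelProj.emb pB chartB (D.U' i).1 (D.U' i).2
  let V : I → PA.Opens := fun a => eA a.1 ''ᵁ Proj.basicOpen _ (a.2 : 𝒜.presheaf.obj (op (D.U a.1).1))
  let W : I → PB.Opens := fun a => eB a.1 ''ᵁ
    Proj.basicOpen (ℬ.deg (D.U' a.1).1 (D.U' a.1).2) (D.φ a.1 (a.2 : 𝒜.presheaf.obj (op (D.U a.1).1)))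
  have e : ∀ a, W a ≤ h ⁻¹ᵁ V a := by
    rintro a _ ⟨y, hy, rfl⟩
    refine ⟨ProjectiveSpectrum.comap (D.φ a.1) (D.irr a.1) y, hy, ?_⟩
    exact (congrArg (fun ψ : Proj (ℬ.deg (D.U' a.1).1 (D.U' a.1).2) ⟶ PA => ψ.base y) (D.sq a.1)).symm
  refine TwAdj35.isIso_adjunct_of_isSectBCLE h θ (RelTildeX.isQCoh_twist hLA) (RelTildeX.isQCoh_twist hLB) V W e
    (fun a => (Proj.isAffineOpen_basicOpen _ _ a.2.2 one_pos).image_of_isOpenImmersion _)
    (fun a => (Proj.isAffineOpen_basicOpen _ _ ((D.φ a.1).map_mem a.2.2) one_pos).image_of_isOpenImmersion _)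
    (fun x => ?_) fun a => ?_
  · obtain ⟨i, hi⟩ := D.cover (pB x)
    obtain ⟨y, rfl⟩ := RelTildeX.Exist.hit (chart := chartB) (D.U' i) hi
    by_contra! hall
    refine (ProjectiveSpectrum.comap (D.φ i) (D.irr i) y).not_irrelevant_le ?_
    show ((𝒜.deg (D.U i).1 (D.U i).2)₊).toIdeal ≤
      (ProjectiveSpectrum.comap (D.φ i) (D.irr i) y).asHomogeneousIdeal.toIdeal
    rw [hgen i, Ideal.span_le]
    intro b hb
    by_contra hne
    exact hall ⟨i, b, hb⟩ ⟨y, hne, rfl⟩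
  · obtain ⟨i, a, ha⟩ := a
    let v : 𝒜.presheaf.obj (op (D.U i).1) →ₛₗ[(D.φ i).toRingHom] ℬ.presheaf.obj (op (D.U' i).1) :=
      (D.φ i).toRingHom.toSemilinearMap
    have hv : ∀ (k : ℕ) (m : 𝒜.presheaf.obj (op (D.U i).1)), m ∈ 𝒜.deg (D.U i).1 (D.U i).2 k →
        v m ∈ ℬ.deg (D.U' i).1 (D.U' i).2 k := fun k m hm => (D.φ i).map_mem hm
    let lA : LA ⟶ (Scheme.Modules.pushforward (eA i)).obj
        (GrMod.tilde (𝒜.deg (D.U i).1 (D.U i).2) (𝒜.deg (D.U i).1 (D.U i).2) n) := lamA (D.U i).1 (D.U i).2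
    let lB : LB ⟶ (Scheme.Modules.pushforward (eB i)).obj
        (GrMod.tilde (ℬ.deg (D.U' i).1 (D.U' i).2) (ℬ.deg (D.U' i).1 (D.U' i).2) n) := lamB (D.U' i).1 (D.U' i).2
    have hVr : V ⟨i, a, ha⟩ ≤ (eA i).opensRange := (eA i).image_le_opensRange _
    have hWr : W ⟨i, a, ha⟩ ≤ (eB i).opensRange := (eB i).image_le_opensRange _
    have hA0 : eA i ⁻¹ᵁ V ⟨i, a, ha⟩ = Proj.basicOpen _ a := (eA i).preimage_image_eq _
    have hB0 : eB i ⁻¹ᵁ W ⟨i, a, ha⟩ = Proj.map (D.φ i) (D.irr i) ⁻¹ᵁ (eA i ⁻¹ᵁ V ⟨i, a, ha⟩) := by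
      rw [hA0]; exact (eB i).preimage_image_eq _
    refine TwAdj35.isSectBCLE_of_charts h θ (Proj.map (D.φ i) (D.irr i)) (eA i) (eB i) (D.sq i)
      (GrMod.comap (D.φ i) (D.irr i) v hv n) lA lB (e _) hVr hWr hB0.le
      (hLA.bijective _ (D.U i).2 _ (hVr.trans (RelTildeX.opensRange_emb pA chartA _ _).le))
      (hLB.bijective _ (D.U' i).2 _ (hWr.trans (RelTildeX.opensRange_emb pB chartB _ _).le)) (fun x => ?_)
      (TwAdj35.isSectBCLE_of_eq _ _ hB0 _ ?_)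
    · refine GrModX.ext_val _ _ fun ⟨y, hy⟩ => ?_
      have hy₁ : RelProj.emb pB chartB (D.U' i).1 (D.U' i).2 y ∈ h ⁻¹ᵁ V ⟨i, a, ha⟩ := e ⟨i, a, ha⟩ hy
      have h1 := hθ i (V ⟨i, a, ha⟩) x y hy₁ (mem_of_sq D i y hy₁)
      have key : ∀ q : GrMod.LocMod (𝒜.deg (D.U i).1 (D.U i).2) (M := 𝒜.presheaf.obj (op (D.U i).1))
          (ProjectiveSpectrum.comap (D.φ i) (D.irr i) y),
          GrMod.locModMap (D.φ i) (D.irr i) v y q = GrTwist.locMap (D.φ i) (D.irr i) y q := fun q => by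
        induction q using LocalizedModule.induction_on with
        | h m s => exact (GrMod.locModMap_mk _ _ _ y m s).trans (GrTwist.locMap_mk _ _ _ m s).symm
      refine (key _).trans (h1.symm.trans ?_)
      rw [QCoh.map_app_comm]
      rfl
    · rw [hA0]
      refine TwAdj35.isSectBC_basicOpen _ _ v hv n (fun Q _ _ w => ?_) ha
      refine ⟨LinearMap.toSpanSingleton _ Q (w 1), fun m => ?_, fun g hg => ?_⟩
      · show D.φ i m • w 1 = w m
        exact (w.map_smulₛₗ m 1).symm.trans (congrArg w (mul_one m))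
      · refine LinearMap.ext_ring ?_
        rw [LinearMap.toSpanSingleton_apply, one_smul, ← hg 1]
        exact congrArg g (map_one (D.φ i)).symm

end iso

section hom

variable {Y PA PB : Scheme.{u}} {𝒜 ℬ : RelProj.QCGrAlg Y} {pA : PA ⟶ Y} {pB : PB ⟶ Y}
  {φ : 𝒜.toQCAlg ⟶ ℬ.toQCAlg} {hφ : RelProj.IsGradedHom φ}
  {hirr : ∀ (U : Y.Opens) (hU : IsAffineOpen U),
    (ℬ.deg U hU)₊ ≤ ((𝒜.deg U hU)₊).map (RelProj.gradedHomAt φ hφ U hU)}
  {chartA : ∀ (U : Y.Opens) (hU : IsAffineOpen U), (((pA ⁻¹ᵁ U : PA.Opens) : Scheme.{u}) ≅ Proj (𝒜.deg U hU))}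
  {chartB : ∀ (U : Y.Opens) (hU : IsAffineOpen U), (((pB ⁻¹ᵁ U : PB.Opens) : Scheme.{u}) ≅ Proj (ℬ.deg U hU))}
  {h : PB ⟶ PA}

/-- The data of a homomorphism over one base. -/
def ofHom (hh : RelProj.IsRelProjMap φ hφ hirr chartA chartB h) : Dat 𝒜 ℬ chartA chartB h where
  ι := Y.affineOpens
  U i := i
  U' i := i
  φ i := RelProj.gradedHomAt φ hφ i.1 i.2
  irr i := hirr i.1 i.2
  sq i := by
    rw [RelProj.emb, RelProj.emb, Category.assoc, hh i.1 i.2, Iso.inv_hom_id_assoc]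
  cover y := by
    obtain ⟨_, ⟨U, hU, rfl⟩, hy, -⟩ := Y.isBasis_affineOpens.exists_subset_of_mem_open (Set.mem_univ y) isOpen_univ
    exact ⟨⟨U, hU⟩, hy⟩
  refine' i j y hi hj := by
    obtain ⟨E, h1, h2, hE⟩ := RelTildeX.Exist.exists_bas i j ⟨hi, hj⟩
    exact ⟨E, hE, h1, h1, h2, h2⟩
  comm i k hU hU' a := congr($(φ.hom.naturality (homOfLE hU.le).op) a)

end hom

end Groth.Agent.RelTwMap
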